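import Cfsg.Agent.H15.TC3
set_option autoImplicit false
set_option maxRecDepth 100000

namespace Cfsg.Agent.JR.TE
open Cfsg.Agent.H15 Cfsg.Agent.H14

noncomputable def t0_0 (_i : ℕ) : ℕ := (nat_lit 0x6f9fc00676e8fd9b9def008f9bc03750cd1ddb95ee002f97c02e67ecbd032ded002f93c03f75cedd4325ec008f83c02700c0385fbdeb006f7bc005e4e237dfb5ea004f77c02f23bc175715e9004f73c01e05e617171de8006d6fc005b6d8fb9b5e77008d6bc036d0b51bdb5676002d67c02da7dcbb02ce75002d63c03ef5b6db42c674008d53c02680a8355f7e73006d4bc00524d234df7672004d47c02ea3a41456b671004d43c01d45d61416be70002d3fc03740eeb9827cdb002d3bc00766ead9c274da008d33c02620983343acd9006d2bc004a4c632c3a4d8004d27c02e4394125b84d7004d23c01cc5ca121b8cd6006d17c00452b85ccefcd5004d17c00734e0114e34d4008d13c015d0885c930cd3004d13c02710e4110e3cd2002d0fc00c43be1c421cd1002d0bc01e118a1c0214d0002b07c036c0deb6820d67002b03c006e6dad6c20566008afbc025607c2fc36d65006af3c003c4ae2f436564004aefc02d83780edb4563004aebc01be5b20e9b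4d62006adfc00372a05ace9d61004adfc006b4d00dcdc560008adbc015106c5a92ad5f004adbc02690d40d8dcd5e002ad7c00b63a61a41ad5d002ad3c01d516e1a01a55c008acbc02460642cc33bc1006ac3c003048e2c4333c0006abfc002f290594e5bbf004abfc00654c40bcd83be008abbc014905c59126bbd004abbc02630c80b8d93bc002ab7c00ae39618c16bbb002ab3c01cd15e188163ba004aafc02ce3600ad2f3b9004aabc01b259e0a9303b8002aa7c015c0c218014bb7002aa3c005f2ba178143b6008a9fc00c204e6b02ebb5006a9fc00272866b42e3b4008897c023804a2982dc4f00688fc00234722902d44e00688bc0022274564dec4d00488bc00594ac088d1c4c008887c013b0425611fc4b004887c02570b0084d2c4a002883c00a137a15c1044900287fc01bf1441580fc4800487bc02c034607929447004877c01a55820752a446002873c01500aa1500e44500286fc00532a21480dc4400886bc00b403467c28c4300686bc001a26a68028442006867c001925453cd8aa6004867c004f48c065252a5008863c012b03053919aa4004863c024709c061262a300285fc014809a1300baa200285bc004b2921280b2a1008857c00ac02a90824aa0006857c001525a90c2429f002853c0098362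11c0a29e00284fc01b313211809a9d00884bc00a802424c22a9c00684bc00122522502229b00284bc00430842540929a006647c001123a504d2333004647c00414700451e332008643c011e02050113331004643c02390800411f33000263fc013a07e0f807b2f00263bc003d2760f00732e008637c009f01a8d01db2d006637c000d2408d41d32c002633c00903480e40632b00262fc01a61220e005b2a00862bc009b01422c1bb2900662bc000a2382301b32800262bc003506823405327002627c012a0660c804991002623c00312560c00419000861fc009600e2201798f00661fc000722e2241718e00261fc002d05849c0398d00861bc009300c4a01598c00661bc00062284a41518b00461bc00290500181398a002417c011d04c09402a19002413c002423c08c0221800840fc008e0062101121700640fc000321e21410a1600240fc002003e46801a1500840bc008b00446c0f21400640bc00022184700ea1300440bc001c0360080d212008407c00880024580c885006407c000121245c0c084004407c001702c0040a883002407c001402604800882008203c008400043808909006203c000020a43c08108004203c000f01c00006907002203c000c01602800106000203c000901001c03000000003c000500800c01001)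
noncomputable def blk (i : ℕ) : ℕ := (t0_0 i)
noncomputable def row (x : ℕ) : ℕ := frcN (Nat.shiftRight x (nat_lit 7)) fun b =>
  Nat.land (Nat.shiftRight (blk b) (Nat.mul (Nat.land x (nat_lit 127)) (nat_lit 88))) (nat_lit 0xffffffffffffffffffffff)
noncomputable def lk (x l : ℕ) : ℕ :=
  Nat.land (Nat.shiftRight (row x) (Nat.mul l (nat_lit 11))) (nat_lit 2047)
noncomputable def ap (x l : ℕ) : ℕ :=
  Nat.land (Nat.shiftRight (row x) (Nat.mul l (nat_lit 11))) (nat_lit 127)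
noncomputable def wt : Wt := (.node (nat_lit 10) (.node (nat_lit 5) (.node (nat_lit 2) (.node (nat_lit 1) (.leaf [nat_lit 4, nat_lit 4, nat_lit 4]) (.leaf [nat_lit 3, nat_lit 4])) (.node (nat_lit 3) (.leaf [nat_lit 0, nat_lit 1, nat_lit 0, nat_lit 1]) (.node (nat_lit 4) (.leaf [nat_lit 0, nat_lit 0]) (.leaf [nat_lit 0, nat_lit 2, nat_lit 0, nat_lit 2])))) (.node (nat_lit 7) (.node (nat_lit 6) (.leaf [nat_lit 0, nat_lit 4, nat_lit 0, nat_lit 3]) (.leaf [nat_lit 0, nat_lit 3, nat_lit 0, nat_lit 4])) (.node (nat_lit 8) (.leaf [nat_lit 2, nat_lit 3, nat_lit 2, nat_lit 3]) (.node (nat_lit 9) (.leaf [nat_lit 2, nat_lit 2]) (.leaf [nat_lit 2, nat_lit 4, nat_lit 2, nat_lit 4]))))) (.node (nat_lit 15) (.node (nat_lit 12) (.node (nat_lit 11) (.leaf [nat_lit 2, nat_lit 1, nat_lit 2, nat_lit 1, nat_lit 2, nat_lit 1]) (.leaf [nat_lit 3, nat_lit 1, nat_lit 3, nat_lit 1, nat_lit 3, nat_lit 1])) (.node (nat_lit 13) (.leaf [nat_lit 4, nat_lit 3])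 (.node (nat_lit 14) (.leaf [nat_lit 4, nat_lit 1, nat_lit 4, nat_lit 1, nat_lit 4, nat_lit 1]) (.leaf [nat_lit 3, nat_lit 3, nat_lit 3])))) (.node (nat_lit 18) (.node (nat_lit 16) (.leaf [nat_lit 1, nat_lit 3, nat_lit 1, nat_lit 3, nat_lit 1, nat_lit 3]) (.node (nat_lit 17) (.leaf [nat_lit 1, nat_lit 1]) (.leaf [nat_lit 4, nat_lit 2, nat_lit 4, nat_lit 2]))) (.node (nat_lit 19) (.leaf [nat_lit 3, nat_lit 2, nat_lit 3, nat_lit 2]) (.node (nat_lit 20) (.leaf [nat_lit 1, nat_lit 2, nat_lit 1, nat_lit 2, nat_lit 1, nat_lit 2]) (.leaf [nat_lit 1, nat_lit 4, nat_lit 1, nat_lit 4, nat_lit 1, nat_lit 4]))))))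
noncomputable def P : TCP where
  lk := lk
  inv := (invT (nat_lit 51388480) (nat_lit 5))
  wt := wt.get
  gens := [nat_lit 0, nat_lit 1, nat_lit 2, nat_lit 3, nat_lit 4]
  N := nat_lit 120
  n := nat_lit 120
  eps := nat_lit 5
  VM := nat_lit 127
  Wv := nat_lit 7
  MAXB := nat_lit 1920
  JM := nat_lit 63
  Wj := nat_lit 6
  Hm := nat_lit 0
def ls : List Nat := [nat_lit 0, nat_lit 1, nat_lit 2, nat_lit 3, nat_lit 4, nat_lit 5]
def cl1 : Cl := (.gen (nat_lit 0) (.gen (nat_lit 1) (.gen (nat_lit 2) (.gen (nat_lit 3) (.gen (nat_lit 4) (.opt (nat_lit 5) .nil))))))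
def cl2 : Cl := (.opt (nat_lit 0) (.opt (nat_lit 1) (.opt (nat_lit 2) (.opt (nat_lit 3) (.opt (nat_lit 4) (.opt (nat_lit 5) .nil))))))
noncomputable def chk : ℕ → List ℕ → ℕ → Bool :=
  rows2 (nat_lit 120) (parOk P) (cols2 lk (nat_lit 1920) (nat_lit 120) (nat_lit 120) (ent1 (nat_lit 127) (nat_lit 63) (nat_lit 6) (decJ wt.get)
    (ent2 lk (nat_lit 127) (special P) (slowE lk (invT (nat_lit 51388480) (nat_lit 5)) (nat_lit 120) (nat_lit 5) (nat_lit 127) (nat_lit 9))))) cl1 cl2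
theorem rg {x y : ℕ} (Js : List ℕ) (h : chk y Js x = true) : RowsGood P ls x y :=
  rowsGood_of2 (c1 := cl1) (c2 := cl2) (by decide +kernel) h
def bases : List (List Nat × Nat) := [([0], 2), ([1], 2), ([2], 2), ([3], 3), ([3, 1], 3), ([1, 2], 3), ([3, 2], 2), ([0, 3, 0, 4], 1), ([0, 1], 2), ([0, 2], 2)]
noncomputable def j0 : List ℕ := nat_lit 0x1041041 :: nat_lit 0x1041040 :: nat_lit 0x104100a :: nat_lit 0x104004a :: nat_lit 0x19404a :: nat_lit 0x401404a :: nat_lit 0x1041008 :: nat_lit 0x104004c :: nat_lit 0x19404e :: nat_lit 0x4014050 :: nat_lit 0x104004a :: nat_lit 0x19404a :: nat_lit 0x401404a :: nat_lit 0x105400a :: nat_lit 0x19204a :: nat_lit 0x401604a :: nat_lit 0x118100a :: nat_lit 0x1c04100a :: nat_lit 0x104004c :: nat_lit 0x19404e :: nat_lit 0x4014050 :: nat_lit 0x1054008 :: nat_lit 0x19204e :: nat_lit 0x4016050 :: nat_lit 0x1181008 :: nat_lit 0x1c041008 :: nat_lit 0x105800a :: nat_lit 0x19204a :: nat_lit 0x401604a ::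 nat_lit 0x1c68100a :: nat_lit 0x1e18100a :: nat_lit 0x19404a :: nat_lit 0x401404a :: nat_lit 0x118100a :: nat_lit 0x1c04100a :: nat_lit 0x1c04090a :: nat_lit 0x401490a :: nat_lit 0x118090a :: nat_lit 0x81488a :: nat_lit 0x1058008 :: nat_lit 0x19204e :: nat_lit 0x4016050 :: nat_lit 0x1c681008 :: nat_lit 0x1e181008 :: nat_lit 0x19404e :: nat_lit 0x4014050 :: nat_lit 0x1181008 :: nat_lit 0x1c041008 :: nat_lit 0x1c04090c :: nat_lit 0x4014910 :: nat_lit 0x118090c :: nat_lit 0x81488e :: nat_lit 0x19204a :: nat_lit 0x401604a :: nat_lit 0x118100a :: nat_lit 0x1c04100a :: nat_lit 0x2618090a :: nat_lit 0x1ca0090a :: nat_lit 0x1c68100a :: nat_lit 0x1e18100a :: nat_lit 0x1c040a8a :: nat_lit 0x401490a :: nat_lit 0x1180a8a :: nat_lit 0x81488a :: nat_lit 0x81204a :: nat_lit 0x401604a :: nat_lit 0x19204e :: nat_lit 0x4016050 :: nat_lit 0x1181008 :: nat_lit 0x1c041008 :: nat_lit 0x2618090c :: nat_lit 0x1ca0090c :: nat_lit 0x1c681008 :: nat_lit 0x1e181008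 :: nat_lit 0x1c040a8c :: nat_lit 0x4014910 :: nat_lit 0x1180a8c :: nat_lit 0x81488e :: nat_lit 0x81204e :: nat_lit 0x4016050 :: nat_lit 0x1c68100a :: nat_lit 0x1e18100a :: nat_lit 0x1c040a8a :: nat_lit 0x401490a :: nat_lit 0x1180a8a :: nat_lit 0x81488a :: nat_lit 0x2618090a :: nat_lit 0x1ca0090a :: nat_lit 0x81204a :: nat_lit 0x401604a :: nat_lit 0x119400a :: nat_lit 0x1c05800a :: nat_lit 0x1c681008 :: nat_lit 0x1e181008 :: nat_lit 0x1c040a8c :: nat_lit 0x4014910 :: nat_lit 0x1180a8c :: nat_lit 0x81488e :: nat_lit 0x2618090c :: nat_lit 0x1ca0090c :: nat_lit 0x81204e :: nat_lit 0x4016050 :: nat_lit 0x1194008 :: nat_lit 0x1c058008 :: nat_lit 0x26180a8a :: nat_lit 0x1ca00a8a :: nat_lit 0x81290a :: nat_lit 0x401690a :: nat_lit 0x1c69400a :: nat_lit 0x1e19800a :: nat_lit 0x4014b0a :: nat_lit 0x81288a :: nat_lit 0x26180a8c :: nat_lit 0x1ca00a8c :: nat_lit 0x81290e :: nat_lit 0x4016910 :: nat_lit 0x1c694008 :: nat_lit 0x1e198008 :: nat_lit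 0x4014b10 :: nat_lit 0x81288e :: []
theorem c0 : RowsGood P ls 0 120 := rg j0 (by decide +kernel)
theorem f0 : RowsGood P ls 0 120 :=
  c0
theorem good : RowsGood P (List.range (P.eps + 1)) 0 P.N :=
  (f0 : RowsGood P ls 0 120)
theorem idx {G : Type*} [Group G] {E : ℕ → G} {inv : ℕ → ℕ} (hi : ∀ l, E (inv l) = (E l)⁻¹)
    {B : List (List ℕ × ℕ)} (hB : ∀ p ∈ B, lprod E p.1 ^ p.2 = 1) (σ : List (List ℕ))
    {hs ks : List (List ℕ)} (hc : certOk P wt bases inv B σ hs ks = true) :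
    (gp E hs).relIndex (gp E ks) ≠ 0 ∧ (gp E hs).relIndex (gp E ks) ≤ 120 :=
  tc_gp hi hB rfl (fun _ h => invT_of_le h) good σ hc

end Cfsg.Agent.JR.TE
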