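import Mathlib
import Cfsg.Agent.JR.Ord
import Cfsg.Agent.GO.App
import Cfsg.Agent.H25.J1

/-!
Involutions whose weak closure in their centraliser is `Z₂ × A₅`.
-/

set_option autoImplicit false
set_option linter.unusedSectionVars false
set_option linter.unusedVariables false

namespace Cfsg.Agent.JR
open Subgroup hiding one
open Cfsg.Agent.FT Cfsg.Agent.H24 Cfsg.Agent.GW Cfsg.Agent.GO
open scoped Classical MatrixGroups commutatorElement

universe u

variable {G : Type u} [Group G] [Finite G] {K M S : Subgroup G} {a g t z : G} {φ : A5 →* G}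

/-- the conjugates of `t` in its centraliser lie in `⟨t⟩ × φ(A₅)` -/
structure Wk (t : G) (φ : A5 →* G) (S : Subgroup G) : Prop where
  ht : Invo t
  inj : Function.Injective φ
  le : φ.range ≤ C[t]
  nrm : C[t] ≤ N(⟪t⟫ ⊔ φ.range)
  cl : ∀ g, g * t * g⁻¹ ∈ C[t] → g * t * g⁻¹ ∈ ⟪t⟫ ⊔ φ.range
  syl : Syl 2 S ⊤
  cen : S ≤ C[t]

theorem a5_dp (ht : Invo t) (inj : Function.Injective φ) (le : φ.range ≤ C[t]) :
    t ∉ φ.range ∧ #(⟪t⟫ ⊔ φ.range : Subgroup G) = 120 := by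
  have h : t ∉ φ.range := fun ⟨a, ha⟩ => ht.ne (by
    rw [← ha, a5_center a fun b => inj (by rw [map_mul, map_mul, ha]; exact mem_cen1.1 (le ⟨b, rfl⟩)),
      map_one])
  refine ⟨h, ?_⟩
  rw [(dp_invo ht le h).card, ht.card, ← Nat.card_congr (MonoidHom.ofInjective inj).toEquiv,
    nat_card_alternatingGroup]
  simp [Nat.factorial]

namespace Wk
variable (h : Wk t φ S)
include h
local notation "W" => (⟪t⟫ ⊔ φ.range : Subgroup G)

theorem l2 : L2 φ.range 5 := a5_l2.of_equiv ((MonoidHom.ofInjective h.inj).symm.trans topEquiv.symm)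

theorem WC : W ≤ C[t] := sup_le (zpowers_le.2 (self_mem_cen1 t)) h.le

theorem cl' (k : G) (hk : k * t * k⁻¹ ∈ C[g * t * g⁻¹]) : k * t * k⁻¹ ∈ cj g W := by
  rw [← cj_cen1, mem_cj] at hk
  rw [mem_cj]
  rw [show g⁻¹ * (k * t * k⁻¹) * g = g⁻¹ * k * t * (g⁻¹ * k)⁻¹ by group] at hk ⊢
  exact h.cl _ hk

theorem all (hM : M.Normal) (hW : W ≤ M) (hd : ∃ m ∈ M, m * t * m⁻¹ ∈ C[t] ∧ m * t * m⁻¹ ≠ t) :
    ∀ a ∈ W, Invo a → ∃ m ∈ M, m * t * m⁻¹ = a := by
  obtain ⟨u, v, x, k⟩ := h.l2.exists_kl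
  obtain ⟨tL, cW⟩ := a5_dp h.ht h.inj h.le
  have mem := fun z => mem_sup_invo (z := z) h.ht h.le
  have dA := dp_invo h.ht (k.le.trans h.le) fun e => tL (k.le e)
  have mA := fun z => mem_sup_invo (z := z) h.ht (k.le.trans h.le)
  have AW := sup_le_sup_left k.le ⟪t⟫
  have tA : t ∈ ⟪t⟫ ⊔ k.p.four := mem_sup_left (mem_zpowers t)
  have VA : k.p.four ≤ ⟪t⟫ ⊔ k.p.four := le_sup_right
  have abA := dA.cp.ab (ab_zpowers t) (InvPair.ab k.p)
  have cA := dA.card
  rw [h.ht.card, k.p.card_four] at cA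
  generalize ⟪t⟫ ⊔ k.p.four = A at *
  have sA : Syl 2 A W := syl_of_not_dvd AW (pGrp_of_card Nat.prime_two (n := 3) cA) (by
    have := FT.card_mul_relIndex AW
    rw [cA, cW] at this
    omega)
  let P : G → Prop := fun a => ∃ m ∈ M, m * t * m⁻¹ = a
  have one : ∀ c ∈ ⟪t⟫, ∀ a ∈ φ.range, Invo a → P (c * a) → ∀ b ∈ φ.range, Invo b → P (c * b) := by
    rintro c hc a ha ia ⟨m, hm, e⟩ b hb ib
    obtain ⟨g, hg, rfl⟩ := h.l2.one a ha b hb ia ib
    refine ⟨g * m, mul_mem (hW (mem_sup_right hg)) hm, ?_⟩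
    rw [show g * m * t * (g * m)⁻¹ = g * (m * t * m⁻¹) * g⁻¹ by group, e, ← mul_assoc, ← mul_assoc,
      ← mul_assoc, mem_cen.1 (cen_zpowers t ▸ h.le hg) c hc]
  have o1 := one 1 (one_mem _)
  simp only [one_mul] at o1
  have o2 := one t (mem_zpowers t)
  have key : (∀ b ∈ φ.range, Invo b → P b) ∨ ∀ b ∈ φ.range, Invo b → P (t * b) := by
    obtain ⟨m, hm, h1, h2⟩ := hd
    exact ((mem _).1 (h.cl m h1)).imp (fun e => o1 _ e (h.ht.conj m) ⟨m, hm, rfl⟩)
      fun e => o2 _ e (h.ht.mul (h.ht.conj m) (mem_cen1.1 h1).symm h2.symm) ⟨m, hm, (h.ht.cancel _).symm⟩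
  have iV : ∀ a ∈ k.p.four, a ≠ 1 → Invo a := fun a ha h1 => invo_of (k.p.mul_self ha) h1
  have orb : {y | ∃ g ∈ M ⊓ N(A), g * t * g⁻¹ = y} = {y | y ∈ A ∧ P y} := by
    ext y
    refine ⟨fun ⟨g, hg, e⟩ => ⟨e ▸ conj_mem hg.2 tA, g, hg.1, e⟩, fun ⟨hy, m, hm, e⟩ => ?_⟩
    subst e
    have h1 : ∀ a ∈ A, P a → a ∈ cj m W := fun a ha ⟨k, _, e⟩ => e ▸ h.cl' k (e ▸ abA.le_cen1 hy ha)
    have h2 := h1 t tA ⟨1, one_mem _, by simp⟩
    have h3 : k.p.four ≤ cj m W := fun a ha => by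
      by_cases e : a = 1
      · exact e ▸ one_mem _
      exact key.elim (fun c => h1 a (VA ha) (c a (k.le ha) (iV a ha e))) fun c =>
        (mul_mem_cancel_left h2).1 (h1 _ (mul_mem tA (VA ha)) (c a (k.le ha) (iV a ha e)))
    obtain ⟨w, hw, h4⟩ := (sA.cj m).syl_subJ sA.pi fun a ha =>
      ((mA a).1 ha).elim (h3 ·) fun e => (mul_mem_cancel_left h2).1 (h3 e)
    rw [cj_cj] at h4
    refine ⟨w * m, ⟨mul_mem (cj_le_of_mem hm hW hw) hm, cj_eq_self.1 (eq_of_card_eq h4 (card_cj _ _).symm).symm⟩, ?_⟩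
    rw [show w * m * t * (w * m)⁻¹ = w * (m * t * m⁻¹) * w⁻¹ by group,
      mem_cen1.1 ((cj_cen1 m t).le (cj_mono m h.WC hw)), mul_inv_cancel_right]
  have odd : {y | y ∈ A ∧ P y}.ncard ≠ 4 := fun e => by
    obtain ⟨w, hw, e1⟩ := ((h.syl.subl h.cen le_top).inf_nml ⟨h.WC, h.nrm⟩).syl_trans sA
    have h1 : cj w S ≤ C[t] := cj_le_of_mem (h.WC hw) h.cen
    have h2 := ncard_class (M ⊓ N(A)) t
    have h4 : cj w S ⊓ M ≤ M ⊓ N(A) := le_inf inf_le_right (inf_le_left.trans (by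
      rw [e1, cj_inf, cj_of_mem hw]; exact normsI (le_nrm _) (h1.trans h.nrm)))
    have h3 := (((h.syl.cj_mem (mem_top w)).inf_nml (nml_top_iff.2 hM)).subl h4
      inf_le_left).relIndex_of_le (le_inf h4 (inf_le_left.trans h1))
    rw [orb, e, ← FT.card_mul_relIndex (inf_le_left : M ⊓ N(A) ⊓ C[t] ≤ _), mul_comm] at h2
    exact (p'nat_iff Nat.prime_two).1 h3 (Nat.eq_of_mul_eq_mul_left (FT.card_pos _) h2 ▸ by decide)
  have both : (∀ b ∈ φ.range, Invo b → P b) ∧ ∀ b ∈ φ.range, Invo b → P (t * b) := by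
    by_contra c
    refine odd ?_
    have pt : P t := ⟨1, one_mem _, by simp⟩
    have p1 : ∀ a, P a → a ≠ 1 := fun a ⟨m, _, e⟩ => e ▸ (h.ht.conj m).ne
    rcases key with c1 | c1
    · rw [show {y | y ∈ A ∧ P y} = insert t (nz k.p.four) from Set.ext fun y => ⟨fun ⟨h1, h2⟩ =>
        ((mA y).1 h1).elim (fun e => Or.inr ⟨e, p1 y h2⟩) fun e => Or.inl (by_contra fun e' => c ⟨c1,
          o2 _ (k.le e) (iV _ e fun e2 => e' (by rw [← h.ht.cancel y, e2, mul_one]))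
            ((h.ht.cancel y).symm ▸ h2)⟩), fun e => e.elim (fun e => e ▸ ⟨tA, pt⟩) fun e =>
          ⟨VA e.1, c1 y (k.le e.1) (iV y e.1 e.2)⟩⟩, Set.ncard_insert_of_notMem fun e => tL (k.le e.1),
        ncard_sharp, k.p.card_four]
    · rw [show {y | y ∈ A ∧ P y} = (t * ·) '' k.p.four from Set.ext fun y => ⟨fun ⟨h1, h2⟩ =>
        ((mA y).1 h1).elim (fun e => (c ⟨o1 y (k.le e) (iV y e (p1 y h2)) h2, c1⟩).elim)
          fun e => ⟨_, e, h.ht.cancel y⟩, fun ⟨a, ha, e⟩ =>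
          ⟨e ▸ mul_mem tA (VA ha), by
            by_cases e' : a = 1
            · simpa [← e, e'] using pt
            · exact e ▸ c1 a (k.le ha) (iV a ha e')⟩⟩, Set.ncard_image_of_injective _ (mul_right_injective t),
        ncard_coe, k.p.card_four]
  intro a ha ia
  refine ((mem a).1 ha).elim (both.1 a · ia) fun e => ?_
  by_cases e' : t = a
  · exact ⟨1, one_mem _, by simp [e']⟩
  · exact h.ht.cancel a ▸ both.2 _ e (h.ht.mul ia (mem_cen1.1 (h.WC ha)).symm e')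

theorem allN (hW : W ≤ normalClosure {t}) : ∀ a ∈ W, Invo a → ∃ m ∈ normalClosure {t}, m * t * m⁻¹ = a := by
  refine h.all inferInstance hW (by_contra fun c => ?_)
  have hO := nml_top_iff.1 ((pcore_char {2}ᶜ _).nml_trans (nml_top_iff.2 (normalClosure_normal (s := {t}))))
  let f := QuotientGroup.mk' O[{2}ᶜ](normalClosure {t})
  haveI := (normalClosure_normal (s := {t})).map f (QuotientGroup.mk'_surjective _)
  have : normalClosure {t} ≤ C((normalClosure {t}).map f).comap f := normalClosure_le_normal (by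
    rintro _ rfl
    refine mem_cen.2 ?_
    rintro _ ⟨g, hg, rfl⟩
    rw [← commutatorElement_eq_one_iff_mul_comm, ← map_commutatorElement]
    exact (QuotientGroup.eq_one_iff _).2 (AC.zstar_sub (hW (mem_sup_left (mem_zpowers _))) h.ht
      (fun g hg e => by_contra fun e' => c ⟨g, hg, mem_cen1.2 e.symm, e'⟩) hg))
  obtain ⟨u, v, x, k⟩ := h.l2.exists_kl
  have e := mem_cen.1 (this (hW (mem_sup_right k.uL))) _ ⟨x, hW (mem_sup_right k.xL), rfl⟩
  rw [← commutatorElement_eq_one_iff_mul_comm, ← map_commutatorElement, commutatorElement_def, k.xu,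
    (invo_of k.p.tt k.p.t1).inv, ← k.p.comm] at e
  exact (invo_of k.p.tsts k.p.ts1).not_mem_odd (odd_core _) ((QuotientGroup.eq_one_iff _).1 e)

variable (gen : ∀ N : Subgroup G, N.Normal → t ∈ N → N = ⊤)
include gen

theorem conj (ha : a ∈ W) (ia : Invo a) : ∃ m, m * t * m⁻¹ = a :=
  (h.allN (le_top.trans (gen (normalClosure {t}) inferInstance (subset_normalClosure rfl)).ge) a ha ia).imp fun _ => And.right

theorem inf_bot (hM : M.Normal) (h1 : M ≠ ⊤) : M ⊓ W = ⊥ := by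
  have key : ∀ a ∈ M ⊓ W, ¬ Invo a := fun a ha ia => by
    obtain ⟨m, rfl⟩ := h.conj gen ha.2 ia
    exact h1 (gen M hM (by simpa using hM.mem_comm ha.1))
  haveI := alternatingGroup.isSimpleGroup_five
  refine eq_bot_iff.2 fun a ha => ?_
  obtain ⟨b, rfl⟩ : a ∈ φ.range := mem_of_sq ((odd_of_no_invo key).of_dvd_nat (orderOf_dvd_card' ha))
    (((mem_sup_invo h.ht h.le).1 ha.2).elim (fun e => mul_mem e e) fun e => by
      have := mul_mem e e
      rwa [mul_assoc, ← mul_assoc a, mem_cen1.1 (h.WC ha.2), mul_assoc, h.ht.cancel] at this)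
  rcases (hM.comap φ).eq_bot_or_eq_top with e | e
  · rw [mem_bot.1 (e.le ha.1), map_one]; exact one_mem _
  · exact absurd (invo_of (by rw [← map_mul, a5_rel.1, map_one]) ((map_ne_one_iff φ h.inj).2 a5_ne.1))
      (key _ ⟨e.ge (mem_top aU), mem_sup_right ⟨_, rfl⟩⟩)

theorem core : Od((⊤ : Subgroup G)) ≤ C[t] := by
  have hO := nml_top_iff.1 (pcore_nml {2}ᶜ (⊤ : Subgroup G))
  have h1 := h.inf_bot gen hO fun e => h.ht.not_mem_odd (odd_core _) (e.ge trivial)
  obtain ⟨u, v, x, k⟩ := h.l2.exists_kl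
  refine coprime_abelian_gen_cent1 (InvPair.ab k.p) k.p.isKleinFour.not_isCyclic (le_top.trans (pcore_nrm _ _))
    (by rw [Cop, k.p.card_four]; exact (odd_core _).coprime_two_right.pow_right 2) fun a ha h2 => ?_
  obtain ⟨g, rfl⟩ := h.conj gen (mem_sup_right (k.le ha)) (invo_of (k.p.mul_self ha) h2)
  refine (cents_of_norms_of_inf (B := cj g W) (normsI (le_top.trans (pcore_nrm _ _)) ((cj_mono g h.WC).trans
    ((cj_cen1 g t).le.trans (le_nrm _)))) (inf_le_right.trans (by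
      rw [← cj_cen1, ← cj_nrm]; exact cj_mono g h.nrm)) (eq_bot_of_le (inf_le_inf_right _ inf_le_left)
      (by rw [← cj_of_mem_nrm (pcore_nrm _ _ (mem_top g)), ← cj_inf, h1, cj_bot]))).trans (cen_le_cen1 ?_)
  simpa using h.cl' 1 (by simpa using cen1_comm.1 (h.le (k.le ha)))

theorem central (hM : M.Normal) (h1 : M ≠ ⊤) : M ≤ center G := by
  have h2 := h.inf_bot gen hM h1
  have sup : ∀ g ∈ M ⊔ ⟪t⟫, g ∈ M ∨ g * t ∈ M := fun g hg => by
    obtain ⟨m, hm, a, ha, rfl⟩ := (mem_sup_norm (normalizer_eq_top M ▸ le_top)).1 hg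
    rcases h.ht.mem_zpowers.1 ha with rfl | rfl
    · exact Or.inl (by simpa using hm)
    · exact Or.inr (by rwa [h.ht.cancel'])
  have cm : ∀ g ∈ M ⊔ ⟪t⟫, ⁅g, t⁆ ∈ M := fun g hg => by
    have : ∀ g ∈ M, ⁅g, t⁆ ∈ M := fun g hg => by
      simpa [commutatorElement_def, mul_assoc] using mul_mem hg (hM.conj_mem _ (inv_mem hg) t)
    exact (sup g hg).elim (this g) fun e => by simpa [commutatorElement_def, mul_assoc] using this _ e
  have key : M ≤ C[t] := fun g hg => by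
    have h3 := AC.zstar_sub (M := M ⊔ ⟪t⟫) (mem_sup_right (mem_zpowers t)) h.ht (fun g hg e =>
      mul_inv_eq_one.1 (eq_one_of_mem_inf h2 (cm g hg) (mul_mem (h.cl g (mem_cen1.2 e.symm))
        (inv_mem (mem_sup_left (mem_zpowers t)))))) (mem_sup_left hg)
    have h4 := h.core gen (pcore_mono_nml _ (nml_top_iff.2 hM) (pcore_inf_le _ le_sup_left
      ⟨h3, cm g (mem_sup_left hg)⟩))
    refine mem_cen1.2 (commutatorElement_eq_one_iff_mul_comm.1 (eq_one_of_sq_odd (odd_core _) h3 ?_))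
    have h5 := mem_cen1.1 h4
    rw [commutatorElement_def, h.ht.inv] at h5 ⊢
    rw [h.ht.cancel'] at h5
    rw [mul_assoc _ t, ← h5]
    simp [mul_assoc, h.ht.cancel]
  exact fun g hg => mem_center_iff.2 fun b => (mem_cen.1
    ((gen C(M) inferInstance (le_cen1.1 key)).ge (mem_top b)) g hg).symm

theorem iso : Spor.IsoJ1 G := by
  obtain ⟨tL, cW⟩ := a5_dp h.ht h.inj h.le
  have tW : t ∈ W := mem_sup_left (mem_zpowers t)
  have hZ : center G ≠ ⊤ := fun e => a5_ne.2.2.2.2.2.2.2 (h.inj (by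
    rw [map_mul, map_mul φ _ aU]; exact mem_center_iff.1 (e.ge trivial) _))
  have h1 := h.inf_bot gen inferInstance hZ
  have hs := QuotientGroup.mk'_surjective (center G)
  have hk := QuotientGroup.ker_mk' (center G)
  set f := QuotientGroup.mk' (center G)
  have one : ∀ a ∈ W, f a = 1 → a = 1 := fun a ha e => eq_one_of_mem_inf h1 (hk.le e) ha
  have it : Invo (f t) := invo_of (by rw [← map_mul, h.ht.sq, map_one]) fun e => h.ht.ne (one t tW e)
  have inj : Function.Injective (f.comp φ) := (injective_iff_map_eq_one _).2 fun a e =>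
    (map_eq_one_iff φ h.inj).1 (one _ (mem_sup_right ⟨a, rfl⟩) e)
  have le : (f.comp φ).range ≤ C[f t] := by
    rintro _ ⟨a, rfl⟩
    exact mem_cen1.2 (by simpa using congrArg f (mem_cen1.1 (h.le ⟨a, rfl⟩)))
  have eW : ⟪f t⟫ ⊔ (f.comp φ).range = (W).map f := by
    rw [Subgroup.map_sup, MonoidHom.map_zpowers, MonoidHom.range_comp]
  obtain ⟨tL', cW'⟩ := a5_dp it inj le
  have lift : ∀ g, f g ∈ C[f t] → g ∈ C[t] := fun g e => by
    have h2 : g * t * g⁻¹ * t⁻¹ ∈ center G := hk.le (by simp [mem_cen1.1 e])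
    have h3 : g * t * g⁻¹ ∈ C[t] := (mul_mem_cancel_right (inv_mem (self_mem_cen1 t))).1
      (mem_cen1.2 (mem_center_iff.1 h2 t).symm)
    exact mem_cen1.2 (mul_inv_eq_iff_eq_mul.1 (mul_inv_eq_one.1
      (eq_one_of_mem_inf h1 h2 (mul_mem (h.cl g h3) (inv_mem tW)))))
  haveI : Nontrivial (G ⧸ center G) := ⟨⟨_, _, it.ne⟩⟩
  haveI : IsSimpleGroup (G ⧸ center G) := ⟨fun N hN => or_iff_not_imp_right.2 fun e => by
    rw [← map_comap_eq_self_of_surjective hs N, Subgroup.map_eq_bot_iff, hk]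
    exact h.central gen (hN.comap f) fun c => e (comap_injective hs (c.trans (comap_top f).symm))⟩
  have nab : ¬ IsMulCommutative (G ⧸ center G) := fun e => a5_ne.2.2.2.2.2.2.2 (inj (by
    rw [map_mul, map_mul (f.comp φ) _ aU]; exact e.is_comm.comm _ _))
  have hS : Syl 2 (S.map f) ⊤ := map_top_of_surjective _ hs ▸ h.syl.map f
  have tS := h.syl.mem_of_cen trivial h.ht.pElt (le_cen1.1 h.cen)
  have sq : ∀ a ∈ S ⊓ W, a * a = 1 := fun a ha => by
    have key : ∀ b : A5, PiElt {2} (φ b) → φ b * φ b = 1 := fun b hb => by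
      rcases (by decide +kernel : ∀ a : A5, a * a = 1 ∨ a ^ 15 = 1) b with e | e
      · rw [← map_mul, e, map_one]
      · rw [hb.eq_one ((p'elt_iff_coprime Nat.prime_two).2 (Nat.Coprime.of_dvd_left
          (orderOf_dvd_of_pow_eq_one (by rw [← map_pow, e, map_one])) (by decide))), one_mul]
    rcases (mem_sup_invo h.ht h.le).1 ha.2 with ⟨b, e⟩ | ⟨b, e⟩
    · exact e ▸ key b (e ▸ h.syl.pi.piElt ha.1)
    · have := key b (e ▸ h.syl.pi.piElt (mul_mem tS ha.1))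
      rwa [e, mul_assoc, ← mul_assoc a, mem_cen1.1 (h.cen ha.1), mul_assoc, h.ht.cancel] at this
  have ty := H8.tyG_of_closed fs nab hS (A := (S ⊓ W).map f) ⟨map_mono inf_le_left, by
      rintro _ ⟨a, ha, rfl⟩ g hg
      obtain ⟨g, rfl⟩ := hs g
      by_cases e : a = 1
      · simp [e]
      have ia := invo_of (sq a ha) e
      have h2 : g * a * g⁻¹ ∈ S ⊔ center G := by
        rw [← hk, ← comap_map_eq]; simpa using hg
      obtain ⟨m, rfl⟩ := h.conj gen ha.2 ia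
      refine ⟨_, ⟨(h.syl.subl le_sup_left le_top).mem_of_nml (sup_le (le_nrm S)
        (center_le_normalizer _)) h2 (ia.conj g).pElt, ?_⟩, by simp⟩
      rw [show g * (m * t * m⁻¹) * g⁻¹ = g * m * t * (g * m)⁻¹ by group] at h2 ⊢
      exact h.cl _ (sup_le h.cen (center_le_centralizer _) h2)⟩
    ((Inverts.ab (s := 1) fun z hz => by simpa using eq_inv_of_mul_eq_one_left (sq z hz)).map f)
    fun e => it.ne (mem_bot.1 (e ▸ ⟨t, ⟨tS, tW⟩, rfl⟩))
  have cl := H8.tyG_cl ty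
  rcases ty with c | c | c
  · obtain ⟨Z, R, F⟩ := c.top.frame hS
    haveI := alternatingGroup.isSimpleGroup_five
    exact (not_sol_of_not_comm (fun e => a5_ne.2.2.2.2.2.2.2 (e.is_comm.comm _ _))
      (((c.top.ksol (as_top nab) F (F.om _ ⟨t, tS, rfl⟩ it.sq) it.ne).mono (le_inf le_top le)).of_equiv
        ((MonoidHom.ofInjective inj).symm.trans topEquiv.symm))).elim
  · obtain ⟨T, hT, h4⟩ := c.syl
    have h2 := (p'nat_iff Nat.prime_two).1 hT.idx
    have h3 := cW' ▸ FT.card_dvd (le_top (a := ⟪f t⟫ ⊔ (f.comp φ).range))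
    rw [← FT.card_mul_relIndex hT.le, h4] at h3
    omega
  obtain ⟨L, F, _, _, ⟨h2, h3⟩, ⟨e⟩, h4, h5, h6⟩ := tj_psl c it
  have cL := Nat.card_congr e.toEquiv
  have LW : L ≤ ⟪f t⟫ ⊔ (f.comp φ).range := by
    haveI := Matrix.ProjectiveSpecialLinearGroup.rank_two_simple (F := F) (by simp; omega)
    haveI := e.isSimpleGroup
    obtain ⟨u, v, x, k⟩ := ((psl_l2 (F := F) (by simpa using h2)).of_equiv
      (e.trans (H10.pslEquiv F))).exists_kl
    obtain ⟨g, hg⟩ := cl.isConj it (invo_of k.p.tt k.p.t1)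
    obtain ⟨g, rfl⟩ := hs g
    rw [← map_inv, ← map_mul, ← map_mul] at hg
    refine subgroupOf_eq_top.1 (((normal_subgroupOf_iff_le_normalizer_inf.2 (normsI (h4.le.trans fun y hy => ?_)
      (le_nrm L))).eq_bot_or_eq_top).resolve_left fun c => k.p.t1 (congrArg Subtype.val (mem_bot.1 (c.le
        (show (⟨u, k.uL⟩ : L) ∈ _ from eW.ge ⟨_, h.cl g (lift _ (hg ▸ h4.le k.uL)), hg⟩)))))
    obtain ⟨y, rfl⟩ := hs y
    exact eW ▸ (le_normalizer_map f) ⟨y, h.nrm (lift y hy), rfl⟩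
  have h7 := cW' ▸ FT.card_dvd LW
  have h8 := (psl_num (cL ▸ h7.trans (by decide))).2 h2
  have h9 := H10.card_PSL2 (F := F)
  rw [← cL, Nat.card_eq_fintype_card (α := F)] at h9
  have q5 : Fintype.card F = 5 := by
    have := Nat.le_of_dvd (by decide) h7
    simp only [List.mem_cons, List.not_mem_nil, or_false] at h8
    rcases h8 with e | e | e <;> simp [e] at h9 h3 ⊢ <;> omega
  have dp := tj_dp c it (q5 ▸ Nat.prime_five) h3 h2 e h4 h5 h6
  obtain ⟨e'⟩ := (Ja.iso ⟨it, inj, eq_of_card_le (sup_le (zpowers_le.2 (self_mem_cen1 _)) le) (by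
    rw [dp.card, it.card, cW']; simp [q5] at h9; omega) ▸ dp_invo it le tL', cl⟩).2
  let s : Shrink.{0} G ≃* G := Shrink.mulEquiv
  let σ := e'.toMonoidHom.comp (f.comp s.toMonoidHom)
  have sur : Function.Surjective σ := e'.surjective.comp (hs.comp s.surjective)
  haveI := Finite.of_equiv _ s.symm.toEquiv
  refine ⟨s.symm.trans (MulEquiv.ofBijective σ ⟨(MonoidHom.ker_eq_bot_iff σ).1 (eq_bot_of_card_le _
    (H25.J1.bound _ σ ⟨sur, fun a ha => mem_center_iff.2 fun b => s.injective (by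
      simpa using mem_center_iff.1 (hk.le ((map_eq_one_iff _ e'.injective).1 ha)) (s b)),
      fun a _ => by_contra fun c => nab ⟨⟨fun x y => ?_⟩⟩⟩)), sur⟩)⟩
  obtain ⟨x, rfl⟩ := (hs.comp s.surjective) x
  obtain ⟨y, rfl⟩ := (hs.comp s.surjective) y
  have := hk.ge (h.central gen ((inferInstance : (_root_.commutator _).Normal).map s.toMonoidHom s.surjective)
    (fun e => c ((mem_map_iff_mem s.injective).1 (e.ge (mem_top _))))
    ⟨⁅x, y⁆, commutator_mem_commutator (mem_top x) (mem_top y), rfl⟩)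
  exact commutatorElement_eq_one_iff_mul_comm.1 (by simpa [map_commutatorElement] using this)

end Wk

theorem weak_iso (ht : Invo t) (hS : Syl 2 S ⊤) (hc : S ≤ C[t])
    (e : closure {x | ∃ g, x = g * t * g⁻¹ ∧ x * t = t * x} ≃* Multiplicative (ZMod 2) × A5) :
    Spor.IsoJ1 (normalClosure {t}) := by
  set W := closure {x | ∃ g, x = g * t * g⁻¹ ∧ x * t = t * x}
  set H := normalClosure {t}
  have WC : W ≤ C[t] := (closure_le _).2 fun x ⟨_, _, h⟩ => mem_cen1.2 h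
  have tW : t ∈ W := subset_closure ⟨1, by simp⟩
  have tH : t ∈ H := subset_normalClosure rfl
  have WH : W ≤ H := (closure_le _).2 fun x ⟨g, h, _⟩ => h ▸ normalClosure_normal.conj_mem t tH g
  let φ : A5 →* G := W.subtype.comp (e.symm.toMonoidHom.comp (MonoidHom.inr _ _))
  have inj : Function.Injective φ := W.subtype_injective.comp (e.symm.injective.comp
    fun a b h => congrArg Prod.snd h)
  have h1 : φ.range ≤ W := by rintro _ ⟨a, rfl⟩; exact (e.symm (1, a)).2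
  have eW : ⟪t⟫ ⊔ φ.range = W := eq_of_card_eq (sup_le (zpowers_le.2 tW) h1) (by
    rw [(a5_dp ht inj (h1.trans WC)).2, Nat.card_congr e.toEquiv, Nat.card_prod, nat_card_alternatingGroup]
    simp [Nat.factorial])
  have cl : ∀ g, g * t * g⁻¹ ∈ C[t] → g * t * g⁻¹ ∈ W := fun g h => subset_closure ⟨g, rfl, mem_cen1.1 h⟩
  have nW : C[t] ≤ N(W) := fun c hc => mem_nrm.2 fun a ha => (closure_le (W.comap
      (MulAut.conj c).toMonoidHom)).2 (by
    rintro _ ⟨g, rfl, h⟩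
    simpa [mul_assoc] using cl (c * g) (by
      simpa [mul_assoc] using conj_mem (le_nrm _ hc) (mem_cen1.2 h))) ha
  have h : Wk t φ S := ⟨ht, inj, h1.trans WC, eW ▸ nW, eW ▸ cl, hS, hc⟩
  have hS' := hS.inf_nml (nml_top_iff.2 (inferInstance : H.Normal))
  have c1 : ∀ z : H, z ∈ C[(⟨t, tH⟩ : H)] ↔ z.1 ∈ C[t] := fun z => by
    rw [mem_cen1, mem_cen1, Subtype.ext_iff]; rfl
  have eW' : ⟪(⟨t, tH⟩ : H)⟫ ⊔ (φ.codRestrict H fun a => WH (h1 ⟨a, rfl⟩)).range = W.subgroupOf H := by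
    refine map_injective H.subtype_injective ?_
    rw [Subgroup.map_sup, MonoidHom.map_zpowers, ← MonoidHom.range_comp, map_subgroupOf_eq_of_le WH]
    exact eW
  refine Wk.iso (S := (S ⊓ H).subgroupOf H) ⟨(orderOf_coe _).symm.trans ht,
    fun a b e => inj (congrArg H.subtype e), fun z hz => (c1 z).2 (WC (eW'.le (mem_sup_right hz))),
    eW' ▸ fun z hz => (so_nrm WH).le (nW ((c1 z).1 hz)), fun g hg => eW'.ge (cl g ((c1 _).1 hg)),
    (hall_so_top inf_le_right).2 hS', fun z hz => (c1 z).2 (hc hz.1)⟩ fun N hN h2 => ?_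
  refine eq_top_iff.2 fun z _ => (so_map N).le ((closure_le (N.map H.subtype)).2 (fun x hx => ?_) z.2)
  obtain ⟨g, rfl⟩ : ∃ g, g * t * g⁻¹ = x := by simpa using Group.mem_conjugatesOfSet_iff.1 hx
  obtain ⟨k, hk, h3⟩ := hS'.syl_elt (normalClosure_normal.conj_mem _ tH g) (ht.conj g).pElt
  have h4 := hc h3.1
  rw [show k * (g * t * g⁻¹) * k⁻¹ = k * g * t * (k * g)⁻¹ by group] at h4
  obtain ⟨m, hm, h5⟩ := h.allN (eW ▸ WH) _ (h.cl _ h4) (ht.conj _)
  exact ⟨_, hN.conj_mem _ h2 ⟨k⁻¹ * m, mul_mem (inv_mem hk) hm⟩, by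
    simp only [coe_subtype, coe_mul, coe_inv]
    rw [show k⁻¹ * m * t * (k⁻¹ * m)⁻¹ = k⁻¹ * (m * t * m⁻¹) * k by group, h5]; group⟩

end Cfsg.Agent.JR
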